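import Cfsg.Agent.Lib.TwoGroups.SemidihedralCases
import Mathlib.GroupTheory.Subgroup.Simple

/-!
# Fusion in a simple group with semidihedral Sylow subgroups and self-centralizing four-groups
-/

set_option autoImplicit false
set_option linter.unusedSectionVars false

namespace CfsgLib.Suborbit3.SDLocal

open Subgroup CfsgLib.TwoGroups.SD CfsgLib.TwoGroups.SDF

variable {G : Type*} [Group G] [Finite G] {S : Sylow 2 G} {r : ℕ} {x y : (S : Subgroup G)}

/-- The central involution. -/
noncomputable def J (r : ℕ) (x : (S : Subgroup G)) : G := ((x ^ (4 * r : ℤ) : (S : Subgroup G)) : G)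

variable (h : SD (S : Subgroup G) r x y)
include h

theorem orderOf_J' : orderOf (J r x) = 2 := orderOf_J h

theorem J_mul_self : J r x * J r x = 1 := by
  rw [← pow_two, ← orderOf_J' h, pow_orderOf_eq_one]

theorem J_ne_one : J r x ≠ 1 := fun e => by
  have := orderOf_J' h
  rw [e, orderOf_one] at this
  omega

theorem commute_J (s : (S : Subgroup G)) : (s : G) * J r x = J r x * (s : G) := by
  have hc : x ^ (4 * r : ℤ) ∈ center (S : Subgroup G) := by rw [center_eq h]; exact mem_zpowers _
  exact congrArg Subtype.val (mem_center_iff.1 hc s)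

theorem card_ne_two : Nat.card G ≠ 2 := by
  intro e
  have := card_subgroup_dvd_card (S : Subgroup G)
  rw [h.card, e] at this
  have := r_pos h
  have := Nat.le_of_dvd two_pos ‹_›
  omega

variable [IsSimpleGroup G]

theorem false_of_index_two {K : Subgroup G} (hK : K.Normal) (hi : K.index = 2) : False := by
  rcases hK.eq_bot_or_eq_top with rfl | rfl
  · rw [index_bot] at hi
    exact card_ne_two h hi
  · simp at hi

theorem fused_four : IsConj ((x ^ (2 * r : ℤ) : (S : Subgroup G)) : G)
    ((x ^ (1 : ℤ) * y : (S : Subgroup G)) : G) := by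
  by_contra hI
  obtain ⟨K, hK, hi, -⟩ := exists_dih_normal h hI
  exact false_of_index_two h hK hi

theorem fused_two : IsConj (J r x) ((x ^ (0 : ℤ) * y : (S : Subgroup G)) : G) := by
  by_contra hI
  obtain ⟨K, hK, hi, -⟩ := exists_quat_normal h hI
  exact false_of_index_two h hK hi

theorem isConj_J {a : G} (h2 : a * a = 1) (h1 : a ≠ 1) : IsConj (J r x) a := by
  have ho : orderOf a = 2 := orderOf_eq_prime (by rw [pow_two]; exact h2) h1
  rcases cases_two h ho with e | e
  · exact e.symm
  · exact (fused_two h).trans e.symm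

/-- Conjugation inside the centralizer of the central involution fuses the two classes of
elements of order four. -/
theorem exists_fuse_four : ∃ g : G, g * J r x = J r x * g ∧
    g * ((x ^ (2 * r : ℤ) : (S : Subgroup G)) : G) * g⁻¹ =
      ((x ^ (1 : ℤ) * y : (S : Subgroup G)) : G) := by
  obtain ⟨g, hg⟩ := isConj_iff.1 (fused_four h)
  refine ⟨g, ?_, hg⟩
  have h1 : (x ^ (2 * r : ℤ)) ^ 2 = x ^ (4 * r : ℤ) := by
    rw [← zpow_natCast, ← zpow_mul]; congr 1; push_cast; ring
  have h2 : (x ^ (1 : ℤ) * y) ^ 2 = x ^ (4 * r : ℤ) := by rw [xy_sq h, mul_one]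
  have hJ : g * J r x * g⁻¹ = J r x := by
    have e1 := congrArg (fun z : G => z ^ 2) hg
    simp only [_root_.conj_pow, ← Subgroup.coe_pow, h1, h2] at e1
    exact e1
  exact mul_inv_eq_iff_eq_mul.1 hJ

end CfsgLib.Suborbit3.SDLocal
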