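import Cfsg.Agent.Lib.Suborbit3.SDLocal.Quot
import Cfsg.Agent.Lib.Suborbit3.Octa.Main
import Cfsg.Agent.Lib.InvChar.OctahedralRecog
import Cfsg.Agent.Lib.InvChar.GLTwoThree

/-!
# The centralizer of an involution is `GL(2, 3)`
-/

set_option autoImplicit false
set_option linter.unusedSectionVars false
set_option linter.style.haveILetI false

namespace CfsgLib.Suborbit3.SDLocal

open Subgroup CfsgLib.TwoGroups.SD CfsgLib.TwoGroups.SDF CfsgLib.GL23

/-- An involution without fixed points on a finite subgroup inverts it. -/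
theorem inverts_of_fixed_free {K : Type*} [Group K] [Finite K] {t : K} (ht : t * t = 1)
    {N : Subgroup K} [N.Normal] (hfix : ∀ a ∈ N, Commute a t → a = 1) :
    ∀ k ∈ N, t * k * t⁻¹ = k⁻¹ := by
  intro k hk
  have ti : t⁻¹ = t := inv_eq_of_mul_eq_one_right ht
  let f : ↥N → ↥N := fun n =>
    ⟨(n : K)⁻¹ * (t * n * t⁻¹), mul_mem (inv_mem n.2) (Normal.conj_mem inferInstance _ n.2 t)⟩
  have hf : Function.Injective f := by
    intro a b e
    have e' : (a : K)⁻¹ * (t * a * t⁻¹) = (b : K)⁻¹ * (t * b * t⁻¹) := congrArg Subtype.val e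
    have hc : Commute ((b : K) * (a : K)⁻¹) t := by
      show (b : K) * (a : K)⁻¹ * t = t * ((b : K) * (a : K)⁻¹)
      calc (b : K) * (a : K)⁻¹ * t = b * ((a : K)⁻¹ * (t * a * t⁻¹)) * t * (a : K)⁻¹ := by group
        _ = _ := by rw [e']; group
    exact Subtype.ext (mul_inv_eq_one.1 (hfix _ (mul_mem b.2 (inv_mem a.2)) hc)).symm
  obtain ⟨⟨m, hm'⟩, hm⟩ := (Finite.injective_iff_surjective.1 hf) ⟨k, hk⟩
  have hm2 : k = m⁻¹ * (t * m * t⁻¹) := (congrArg Subtype.val hm).symm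
  rw [hm2, ti, mul_inv_rev, mul_inv_rev, mul_inv_rev, inv_inv, ti]
  calc t * (m⁻¹ * (t * m * t)) * t = t * m⁻¹ * t * m * (t * t) := by group
    _ = _ := by rw [ht]; group

theorem reflection_noncentral : ∀ a ∈ gl, cls a = 2 → ∃ b ∈ gl, tmul a b ≠ tmul b a := by
  decide +kernel

theorem det_one_reflections : ∀ a ∈ gl, tdet a = 1 →
    ∃ p ∈ gl.filter (fun p => cls p = 2), cls (tmul p a) = 2 ∨ a = (1, 0, 0, 1) := by
  decide +kernel

theorem refl_det : ∀ a ∈ gl, tdet a ≠ 1 →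
    tdet (tmul (tinv (1, 0, 0, 2)) a) = 1 := by
  decide +kernel

theorem refl_facts : cls (1, 0, 0, 2) = 2 ∧ ((1, 0, 0, 2) : T) ∈ gl := by decide +kernel

variable {G : Type*} [Group G] [Finite G] [IsSimpleGroup G] {S : Sylow 2 G} {r : ℕ}
  {x y : (S : Subgroup G)}

open Cfsg in
/-- The frame at the central involution of the Sylow subgroup. -/
theorem exists_frame (h : SD (S : Subgroup G) r x y)
    (hV : Nat.card (centralizer ({J r x, (y : G)} : Set G)) = 4) :
    r = 1 ∧ Nonempty (Octa.Frame (J r x)) := by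
  classical
  haveI hp2 : Fact (Nat.Prime 2) := ⟨Nat.prime_two⟩
  haveI hCsol := isSolvable_C h hV
  obtain ⟨p, hp⟩ : ∃ p : C r x →* C r x ⧸ oddCore (C r x), p = QuotientGroup.mk' _ := ⟨_, rfl⟩
  have hpsurj : Function.Surjective p := by rw [hp]; exact QuotientGroup.mk'_surjective _
  haveI hKsol : Group.IsSolvable (C r x ⧸ oddCore (C r x)) := Group.isSolvable_of_surjective hpsurj
  have hkerp : p.ker = oddCore (C r x) := by rw [hp]; exact QuotientGroup.ker_mk' _
  have hoddker : Odd (Nat.card p.ker) := by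
    rw [hkerp]
    exact Nat.coprime_two_right.1 CfsgLib.PCore.pPrimeCore_coprime
  have hinj : Function.Injective (p.comp (sC h)) := by
    rw [← MonoidHom.ker_eq_bot_iff, eq_bot_iff]
    intro s hs
    rw [Subgroup.mem_bot]
    have hmem : sC h s ∈ p.ker := hs
    have h1 : orderOf s ∣ Nat.card p.ker := by
      rw [← orderOf_injective (sC h) (sC_injective h)]
      exact orderOf_dvd_natCard _ hmem
    obtain ⟨k, hk⟩ := IsPGroup.iff_orderOf.1 S.isPGroup' s
    rw [hk] at h1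
    rcases k.eq_zero_or_pos with rfl | hk0
    · rwa [pow_zero, orderOf_eq_one_iff] at hk
    · exact absurd ((dvd_pow_self 2 hk0.ne').trans h1)
        (by rw [← even_iff_two_dvd]; exact Nat.not_even_iff_odd.2 hoddker)
  let P0 : Sylow 2 (C r x ⧸ oddCore (C r x)) := (S.subtype (sylow_le_C h)).mapSurjective hpsurj
  have hP0 : ∀ k ∈ (P0 : Subgroup (C r x ⧸ oddCore (C r x))), ∃ s, p (sC h s) = k := by
    intro k hk
    rw [Sylow.coe_mapSurjective] at hk
    obtain ⟨g, hg, rfl⟩ := hk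
    rw [Sylow.coe_subtype, SetLike.mem_coe, mem_subgroupOf] at hg
    exact ⟨⟨g, hg⟩, rfl⟩
  have hP0' : ∀ s, p (sC h s) ∈ (P0 : Subgroup (C r x ⧸ oddCore (C r x))) := by
    intro s
    rw [Sylow.coe_mapSurjective]
    exact ⟨sC h s, by rw [Sylow.coe_subtype, SetLike.mem_coe, mem_subgroupOf]; exact s.2, rfl⟩
  obtain ⟨g, hg, hgc⟩ := exists_fuse_four h
  have hgC : g ∈ C r x := mem_centralizer_singleton_iff.2 hg
  have hfuse : p ⟨g, hgC⟩ * p (sC h (x ^ (2 * r : ℤ))) * (p ⟨g, hgC⟩)⁻¹ =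
      p (sC h (x ^ (1 : ℤ) * y)) := by
    rw [← map_inv, ← map_mul, ← map_mul]
    exact congrArg p (Subtype.ext hgc)
  -- not 2-closed
  have hns : ∀ P : Sylow 2 (C r x ⧸ oddCore (C r x)),
      ¬ (P : Subgroup (C r x ⧸ oddCore (C r x))).Normal := by
    intro P hPn
    haveI := hPn
    obtain ⟨k0, hk0⟩ := MulAction.exists_smul_eq (C r x ⧸ oddCore (C r x)) P P0
    rw [Sylow.smul_eq_of_normal] at hk0
    subst hk0
    obtain ⟨s, hs⟩ := hP0 _ (hPn.conj_mem _ (hP0' x) (p ⟨g, hgC⟩))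
    have hos : orderOf s = 8 * r := by
      rw [← h.ordx, ← orderOf_injective (p.comp (sC h)) hinj s,
        ← orderOf_injective (p.comp (sC h)) hinj x]
      show orderOf (p (sC h s)) = orderOf (p (sC h x))
      rw [hs]
      exact MulEquiv.orderOf_eq (MulAut.conj (p ⟨g, hgC⟩)) _
    have hr := r_pos h
    obtain ⟨k, rfl | rfl⟩ := h.gen s
    · have e : p (sC h ((x ^ k) ^ (2 * r : ℤ))) = p (sC h (x ^ (1 : ℤ) * y)) := by
        rw [map_zpow, map_zpow, hs, conj_zpow, ← map_zpow, ← map_zpow, hfuse]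
      rw [← zpow_mul] at e
      exact not_mem_y h 1 (k * (2 * r)) (hinj e).symm
    · rcases Int.even_or_odd k with hk | hk
      · rw [orderOf_xy_even h hk] at hos; omega
      · rw [orderOf_xy_odd h hk] at hos; omega
  have hdcore : p (sC h (x ^ (1 : ℤ) * y)) ∈ pCore 2 (C r x ⧸ oddCore (C r x)) := by
    haveI hAn : (A h).Normal := normalClosure_normal
    have hp4 : IsPGroup 2 ((A h).comap (π h)) := by
      intro a
      refine ⟨2, Subtype.ext ?_⟩
      have e := A_sq h hV a.2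
      rw [← map_mul] at e
      rw [Subgroup.coe_pow, Subgroup.coe_one, show (2 : ℕ) ^ 2 = 2 * 2 from rfl, pow_mul, pow_two,
        pow_two]
      rcases (π_eq_one h).1 e with e' | e' <;> rw [e']
      · rw [one_mul]
      · exact uC_sq h
    exact CfsgLib.PCore.le_pCore ((hAn.comap (π h)).map p hpsurj) (hp4.map p)
      ⟨_, dQ_mem_A h, rfl⟩
  have hrank : ∀ a b : C r x ⧸ oddCore (C r x), a ∈ pCore 2 (C r x ⧸ oddCore (C r x)) →
      b ∈ pCore 2 (C r x ⧸ oddCore (C r x)) → orderOf a = 2 → orderOf b = 2 → a = b := by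
    have key : ∀ a ∈ pCore 2 (C r x ⧸ oddCore (C r x)), orderOf a = 2 →
        a = p (sC h (x ^ (4 * r : ℤ))) := by
      intro a ha ho
      obtain ⟨s, rfl⟩ := hP0 a (CfsgLib.PCore.pCore_le_sylow P0 ha)
      have hs2 : orderOf s = 2 := by rw [← orderOf_injective (p.comp (sC h)) hinj s]; exact ho
      rcases involution_cases h hs2 with rfl | ⟨k, hk, rfl⟩
      · rfl
      exfalso
      refine hns P0 ?_
      suffices hle : (P0 : Subgroup (C r x ⧸ oddCore (C r x))) ≤
          pCore 2 (C r x ⧸ oddCore (C r x)) by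
        rw [le_antisymm hle (CfsgLib.PCore.pCore_le_sylow P0)]
        exact Cfsg.pCore_normal 2 _
      let M0 : Subgroup (S : Subgroup G) :=
        (pCore 2 (C r x ⧸ oddCore (C r x))).comap (p.comp (sC h))
      have h1 : x ^ (k - 1) ∈ M0 := by
        have hm : (x ^ k * y) * (x ^ (1 : ℤ) * y)⁻¹ ∈ M0 := mul_mem ha (inv_mem hdcore)
        rwa [show (x ^ k * y) * (x ^ (1 : ℤ) * y)⁻¹ = x ^ k * (x ^ (1 : ℤ))⁻¹ by group,
          ← zpow_neg, ← zpow_add] at hm
      have hxM : x ∈ M0 := by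
        have h2 := zpowers_zpow_of_odd h (show Odd (k - 1) from Even.sub_odd hk odd_one)
        have : x ∈ Subgroup.zpowers (x ^ (k - 1)) := h2
        exact (zpowers_le.2 h1) this
      have hyM : y ∈ M0 := by
        have hm : (x ^ (1 : ℤ))⁻¹ * (x ^ (1 : ℤ) * y) ∈ M0 :=
          mul_mem (inv_mem (zpow_mem hxM 1)) hdcore
        rwa [inv_mul_cancel_left] at hm
      intro b hb
      obtain ⟨s', rfl⟩ := hP0 b hb
      obtain ⟨i, rfl | rfl⟩ := h.gen s'
      · exact zpow_mem hxM i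
      · exact mul_mem (zpow_mem hxM i) hyM
    intro a b ha hb hoa hob
    rw [key a ha hoa, key b hb hob]
  obtain ⟨h48, -, -, hsyl, hocta⟩ := CfsgLib.InvChar.octahedral
    CfsgLib.InvChar.oddCore_quotient_oddCore hrank hns
  have hr1 : r = 1 := by
    have e1 := (hsyl P0).1
    have e2 : Nat.card (P0 : Subgroup (C r x ⧸ oddCore (C r x))) = 16 * r := by
      rw [← h.card]
      refine (Nat.card_eq_of_bijective (fun s => (⟨p (sC h s), hP0' s⟩ :
        (P0 : Subgroup (C r x ⧸ oddCore (C r x))))) ⟨fun a b e => hinj (congrArg Subtype.val e),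
          fun k => ?_⟩).symm
      obtain ⟨s, hs⟩ := hP0 k.1 k.2
      exact ⟨s, Subtype.ext hs⟩
    omega
  refine ⟨hr1, ?_⟩
  obtain ⟨eK⟩ := hocta ⟨p (sC h (x ^ (0 : ℤ) * y)),
    by
      show orderOf (p.comp (sC h) (x ^ (0 : ℤ) * y)) = 2
      rw [orderOf_injective _ hinj]; exact orderOf_xy_even h Even.zero,
    fun hc => by
      have e : Commute (x ^ (1 : ℤ)) (x ^ (0 : ℤ) * y) := hinj (by
        show p.comp (sC h) _ = p.comp (sC h) _
        rw [map_mul (p.comp (sC h)) (x ^ (1 : ℤ)), map_mul (p.comp (sC h)) (x ^ (0 : ℤ) * y)]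
        exact mem_center_iff.1 hc _)
      have := Int.le_of_dvd one_pos ((commute_pow_xy h).1 e)
      omega⟩
  obtain ⟨eG⟩ := CfsgLib.InvChar.Q8Action.nonempty_equiv_GL23
  obtain ⟨φ, hφ⟩ : ∃ φ : C r x →* M, φ = ((eK.symm.trans eG).toMonoidHom).comp p := ⟨_, rfl⟩
  have hφs : Function.Surjective φ := by
    rw [hφ]; exact (eK.symm.trans eG).surjective.comp hpsurj
  have hφk : φ.ker = p.ker := by
    rw [hφ]; ext a; simp [MonoidHom.mem_ker]
  have hoddφ : Odd (Nat.card φ.ker) := by rw [hφk]; exact hoddker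
  obtain ⟨j, hj⟩ := hoddφ
  -- lifts of reflections invert the kernel
  have hrefl : ∀ a : C r x, cls (coords (φ a)) = 2 →
      ∃ w : C r x, φ w = φ a ∧ ∀ k ∈ φ.ker, w * k * w⁻¹ = k⁻¹ := by
    intro a ha
    have hgl : coords (φ a) ∈ gl := mem_gl _
    have hsq : φ a * φ a = 1 := coords_injective (by
      rw [coords_mul, coords_one]; exact (Octa.Frame.sq_of_reflection _ hgl ha).1)
    have hak : a * a ∈ φ.ker := by rw [MonoidHom.mem_ker, map_mul, hsq]
    obtain ⟨w, hw⟩ : ∃ w, w = a ^ (2 * j + 1) := ⟨_, rfl⟩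
    have hw2 : w * w = 1 := by
      rw [hw, ← (Commute.refl a).mul_pow, ← hj]
      exact orderOf_dvd_iff_pow_eq_one.1 (orderOf_dvd_natCard _ hak)
    have hφw : φ w = φ a := by
      rw [hw, map_pow, pow_succ, pow_mul, pow_two, hsq, one_pow, one_mul]
    refine ⟨w, hφw, inverts_of_fixed_free hw2 fun k hk hkw => ?_⟩
    have hw1 : w ≠ 1 := fun e => by
      rw [e, map_one] at hφw
      exact (Octa.Frame.sq_of_reflection _ hgl ha).2 (by rw [← hφw, coords_one])
    have how : orderOf w = 2 := orderOf_eq_prime (by rw [pow_two]; exact hw2) hw1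
    obtain ⟨R, hR⟩ := (IsPGroup.of_card (p := 2) (G := zpowers w) (n := 1)
      (by rw [Nat.card_zpowers, how, pow_one])).exists_le_sylow
    obtain ⟨c, hc⟩ := MulAction.exists_smul_eq (C r x) R (S.subtype (sylow_le_C h))
    have hmem : c * w * c⁻¹ ∈ ((S.subtype (sylow_le_C h) : Sylow 2 (C r x)) : Subgroup (C r x)) := by
      rw [← hc]; exact ⟨w, hR (mem_zpowers w), rfl⟩
    rw [Sylow.coe_subtype, mem_subgroupOf] at hmem
    obtain ⟨s, hs⟩ : ∃ s, sC h s = c * w * c⁻¹ := ⟨⟨_, hmem⟩, rfl⟩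
    have hos : orderOf s = 2 := by
      rw [← orderOf_injective (sC h) (sC_injective h), hs]
      exact (MulEquiv.orderOf_eq (MulAut.conj c) w).trans how
    rcases involution_cases h hos with rfl | ⟨i, hi, rfl⟩
    · exfalso
      obtain ⟨b, hb, hne⟩ := reflection_noncentral _ hgl ha
      obtain ⟨b', hb'⟩ := exists_coords (Finset.mem_filter.1 hb).2
      obtain ⟨b'', rfl⟩ := hφs b'
      have hwu : w = sC h (x ^ (4 * r : ℤ)) := by
        calc w = c⁻¹ * (c * w * c⁻¹) * c := by group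
          _ = _ := by rw [← hs, mul_assoc, ← uC_comm h c, inv_mul_cancel_left]
      apply hne
      rw [← hb', ← coords_mul, ← coords_mul, ← hφw, ← map_mul, ← map_mul, hwu, uC_comm h b'']
    · have hodd : Odd (orderOf ((c * k * c⁻¹ : C r x) : G)) := by
        rw [Subgroup.orderOf_coe, show orderOf (c * k * c⁻¹) = orderOf k from
          MulEquiv.orderOf_eq (MulAut.conj c) k]
        exact Odd.of_dvd_nat ⟨j, hj⟩ (orderOf_dvd_natCard _ hk)
      have hcomm : Commute (c * k * c⁻¹) (sC h (x ^ i * y)) := by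
        rw [hs]
        exact hkw.map (MulAut.conj c).toMonoidHom
      have h1 := eq_one_of_odd h hV hi hodd
        (mem_centralizer_singleton_iff.1 (c * k * c⁻¹).2) (congrArg Subtype.val hcomm.eq)
      exact conj_eq_one_iff.1 (Subtype.ext h1)
  obtain ⟨r0, hr0⟩ := exists_coords (Finset.mem_filter.1 refl_facts.2).2
  obtain ⟨a0, rfl⟩ := hφs r0
  obtain ⟨w0, hw0, hw0i⟩ := hrefl a0 (by rw [hr0]; exact refl_facts.1)
  have hcomm : ∀ k ∈ φ.ker, ∀ l ∈ φ.ker, k * l = l * k := by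
    intro k hk l hl
    have e := hw0i _ (mul_mem hk hl)
    rw [show w0 * (k * l) * w0⁻¹ = w0 * k * w0⁻¹ * (w0 * l * w0⁻¹) by group, hw0i k hk, hw0i l hl,
      mul_inv_rev] at e
    have := congrArg (fun z => z⁻¹) e
    simpa using this.symm
  have hsame : ∀ a b : C r x, φ a = φ b → ∀ k ∈ φ.ker, a * k * a⁻¹ = b * k * b⁻¹ := by
    intro a b hab k hk
    have hd : b⁻¹ * a ∈ φ.ker := by
      rw [MonoidHom.mem_ker, map_mul, map_inv, hab, inv_mul_cancel]
    calc a * k * a⁻¹ = b * ((b⁻¹ * a) * k * (b⁻¹ * a)⁻¹) * b⁻¹ := by group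
      _ = b * k * b⁻¹ := by rw [hcomm _ hd _ hk, mul_inv_cancel_right]
  have hrinv : ∀ a : C r x, cls (coords (φ a)) = 2 → ∀ k ∈ φ.ker, a * k * a⁻¹ = k⁻¹ := by
    intro a ha k hk
    obtain ⟨w, hw, hwi⟩ := hrefl a ha
    rw [hsame a w hw.symm k hk, hwi k hk]
  have hcent : ∀ a : C r x, tdet (coords (φ a)) = 1 → ∀ k ∈ φ.ker, a * k * a⁻¹ = k := by
    intro a ha k hk
    obtain ⟨q, hq, hcase⟩ := det_one_reflections _ (mem_gl _) ha
    obtain ⟨hqgl, hq2⟩ := Finset.mem_filter.1 hq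
    rcases hcase with hpq | h1
    · obtain ⟨q', hq'⟩ := exists_coords (Finset.mem_filter.1 hqgl).2
      obtain ⟨b, rfl⟩ := hφs q'
      have hb : cls (coords (φ b)) = 2 := by rw [hq']; exact hq2
      have hba : cls (coords (φ (b * a))) = 2 := by rw [map_mul, coords_mul, hq']; exact hpq
      calc a * k * a⁻¹ = b⁻¹ * ((b * a) * k * (b * a)⁻¹) * b := by group
        _ = b⁻¹ * k⁻¹ * b := by rw [hrinv _ hba k hk]
        _ = b⁻¹ * (b * k * b⁻¹) * b := by rw [hrinv b hb k hk]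
        _ = k := by group
    · have ha1 : φ a = φ 1 := coords_injective (by rw [h1, map_one, coords_one])
      rw [hsame a 1 ha1 k hk]; group
  refine ⟨⟨φ, hφs, ⟨j, hj⟩, ?_, hcent, orderOf_J' h⟩⟩
  intro a ha k hk
  have hb : tdet (coords (φ (w0⁻¹ * a))) = 1 := by
    rw [map_mul, map_inv, coords_mul, coords_inv, hw0, hr0]
    exact refl_det _ (mem_gl _) ha
  calc a * k * a⁻¹ = w0 * ((w0⁻¹ * a) * k * (w0⁻¹ * a)⁻¹) * w0⁻¹ := by group
    _ = w0 * k * w0⁻¹ := by rw [hcent _ hb k hk]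
    _ = k⁻¹ := hw0i k hk

/-- The centralizer of the central involution is `GL(2, 3)`. -/
theorem nonempty_equiv_gl23 (h : SD (S : Subgroup G) r x y)
    (hV : Nat.card (centralizer ({J r x, (y : G)} : Set G)) = 4) :
    r = 1 ∧ Nonempty (Ct (J r x) ≃* M) := by
  obtain ⟨hr, ⟨Φ⟩⟩ := exists_frame h hV
  haveI : Fintype G := Fintype.ofFinite G
  haveI : Fact (Nat.Prime 2) := ⟨Nat.prime_two⟩
  refine ⟨hr, Φ.nonempty_equiv_of_κ (Φ.κ_eq_one (fun a h2 h1 => isConj_J h h2 h1) fun h32 => ?_)⟩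
  have h1 := (S : Subgroup G).card_mul_index
  rw [h.card, hr, mul_one] at h1
  rw [← h1, show 32 = 16 * 2 from rfl] at h32
  exact S.not_dvd_index (Nat.dvd_of_mul_dvd_mul_left (by norm_num) h32)

end CfsgLib.Suborbit3.SDLocal
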