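import Cfsg.Agent.Lib.Suborbit3.SDLocal.Fusion

/-!
# Self-centralizing four-groups
-/

set_option autoImplicit false
set_option linter.unusedSectionVars false

namespace CfsgLib.Suborbit3.SDLocal

open Subgroup CfsgLib.TwoGroups.SD CfsgLib.TwoGroups.SDF

variable {G : Type*} [Group G] [Finite G] {S : Sylow 2 G} {r : ℕ} {x y : (S : Subgroup G)}
variable (h : SD (S : Subgroup G) r x y)
variable (hV : Nat.card (centralizer ({J r x, (y : G)} : Set G)) = 4)
include h hV

theorem exists_eq_of_commute_y {g : G} (hJ : g * J r x = J r x * g) (hy : g * (y : G) = y * g) :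
    ∃ s : (S : Subgroup G), (s : G) = g ∧ Commute s (x ^ (0 : ℤ) * y) := by
  let C0 : Subgroup G :=
    (centralizer ({x ^ (0 : ℤ) * y} : Set (S : Subgroup G))).map (S : Subgroup G).subtype
  have hle : C0 ≤ centralizer ({J r x, (y : G)} : Set G) := by
    rintro _ ⟨s, hs, rfl⟩
    rw [SetLike.mem_coe, zpow_zero, one_mul, mem_centralizer_singleton_iff] at hs
    rw [mem_centralizer_iff]
    rintro z (rfl | rfl)
    · exact (commute_J h s).symm
    · exact congrArg Subtype.val hs.symm
  have heq : C0 = centralizer ({J r x, (y : G)} : Set G) := by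
    refine eq_of_le_of_card_ge hle ?_
    rw [hV, card_map_of_injective (S : Subgroup G).subtype_injective, card_centralizer_xy h]
  have hg : g ∈ C0 := by
    rw [heq, mem_centralizer_iff]
    rintro z (rfl | rfl)
    · exact hJ.symm
    · exact hy.symm
  obtain ⟨s, hs, rfl⟩ := hg
  exact ⟨s, rfl, mem_centralizer_singleton_iff.1 hs⟩

/-- The centralizer of the four-group of a noncentral involution. -/
theorem cent_xy {a : ℤ} (ha : Even a) {g : G} (hJ : g * J r x = J r x * g)
    (hg : g * ((x ^ a * y : (S : Subgroup G)) : G) = ((x ^ a * y : (S : Subgroup G)) : G) * g) :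
    ∃ j : ℤ, g = ((x ^ (4 * r * j : ℤ) : (S : Subgroup G)) : G) ∨
      g = ((x ^ (4 * r * j : ℤ) * (x ^ a * y) : (S : Subgroup G)) : G) := by
  obtain ⟨c, hc⟩ := isConj_iff.1 (isConj_xy h (a := 0) (b := a) (by
    simpa using even_iff_two_dvd.mp ha))
  have hc' : (c : G) * (y : G) * (c : G)⁻¹ = ((x ^ a * y : (S : Subgroup G)) : G) := by
    rw [← hc, zpow_zero, one_mul]; simp
  have hJc := commute_J h c
  obtain ⟨s, hs, hsc⟩ := exists_eq_of_commute_y h hV (g := (c : G)⁻¹ * g * c) (by
    calc (c : G)⁻¹ * g * c * J r x = (c : G)⁻¹ * g * (J r x * c) := by rw [← hJc]; group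
      _ = (c : G)⁻¹ * (g * J r x) * c := by group
      _ = (c : G)⁻¹ * (J r x * g) * c := by rw [hJ]
      _ = ((c : G)⁻¹ * J r x) * g * c := by group
      _ = (J r x * (c : G)⁻¹) * g * c := by
          rw [show (c : G)⁻¹ * J r x = J r x * (c : G)⁻¹ from
            (show Commute (c : G) (J r x) from hJc).inv_left.eq]
      _ = J r x * ((c : G)⁻¹ * g * c) := by group) (by
    calc (c : G)⁻¹ * g * c * y = (c : G)⁻¹ * (g * ((c : G) * y * (c : G)⁻¹)) * c := by group
      _ = (c : G)⁻¹ * ((c : G) * y * (c : G)⁻¹ * g) * c := by rw [hc', hg]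
      _ = y * ((c : G)⁻¹ * g * c) := by group)
  have hs' : g = ((c * s * c⁻¹ : (S : Subgroup G)) : G) := by
    simp only [Subgroup.coe_mul, Subgroup.coe_inv, hs]; group
  have hsc' : Commute (c * s * c⁻¹) (x ^ a * y) := by
    rw [← hc]
    exact hsc.map (MulAut.conj c).toMonoidHom
  obtain ⟨j, e | e⟩ := (centralizer_xy h _).1 hsc'
  · exact ⟨j, Or.inl (hs'.trans (congrArg Subtype.val e))⟩
  · exact ⟨j, Or.inr (hs'.trans (congrArg Subtype.val e))⟩

/-- An element of odd order centralizing a four-group is trivial. -/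
theorem eq_one_of_odd {a : ℤ} (ha : Even a) {g : G} (ho : Odd (orderOf g))
    (hJ : g * J r x = J r x * g)
    (hg : g * ((x ^ a * y : (S : Subgroup G)) : G) = ((x ^ a * y : (S : Subgroup G)) : G) * g) :
    g = 1 := by
  have hgS : g ∈ (S : Subgroup G) := by
    obtain ⟨j, e | e⟩ := cent_xy h hV ha hJ hg <;> rw [e] <;> exact SetLike.coe_mem _
  obtain ⟨k, hk⟩ := IsPGroup.iff_orderOf.1 S.isPGroup' ⟨g, hgS⟩
  rw [Subgroup.orderOf_mk] at hk
  rw [hk] at ho
  rcases k.eq_zero_or_pos with rfl | hk0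
  · rwa [pow_zero, orderOf_eq_one_iff] at hk
  · exact absurd ho (Nat.not_odd_iff_even.2 ((Nat.even_pow.2 ⟨even_two, hk0.ne'⟩)))

end CfsgLib.Suborbit3.SDLocal
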