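import Cfsg.Agent.Lib.Suborbit3.SDLocal.Centralizer
import Cfsg.Agent.S0205
import Cfsg.Agent.Lib.Characters.Burnside

/-!
# The centralizer of the central involution is solvable
-/

set_option autoImplicit false
set_option linter.unusedSectionVars false
set_option linter.style.haveILetI false

namespace CfsgLib.Suborbit3.SDLocal

open Subgroup CfsgLib.TwoGroups.SD CfsgLib.TwoGroups.SDF

/-- Two involutions which are not conjugate centralise a common involution of the group they
generate. -/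
theorem exists_common_involution {Q : Type*} [Group Q] [Finite Q] {v e : Q} (hv : v * v = 1)
    (he : e * e = 1) (hne : ¬ IsConj v e) :
    ∃ z : Q, z ≠ 1 ∧ z * z = 1 ∧ Commute z v ∧ Commute z e := by
  obtain ⟨p, hp⟩ : ∃ p, p = v * e := ⟨_, rfl⟩
  have hv' : v⁻¹ = v := inv_eq_of_mul_eq_one_right hv
  have he' : e⁻¹ = e := inv_eq_of_mul_eq_one_right he
  have hinv : v * p * v⁻¹ = p⁻¹ := by
    rw [hp, mul_inv_rev, hv', he', ← mul_assoc, hv, one_mul]
  rcases Nat.even_or_odd (orderOf p) with ⟨j, hj⟩ | ⟨j, hj⟩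
  · have hj0 : 0 < j := by have := orderOf_pos p; omega
    have hz : p ^ j * p ^ j = 1 := by rw [← pow_add, ← hj, pow_orderOf_eq_one]
    have hzv : Commute (p ^ j) v := by
      have h1 : v * p ^ j * v⁻¹ = p ^ j := by
        rw [← _root_.conj_pow, hinv, inv_pow, inv_eq_of_mul_eq_one_right hz]
      exact (mul_inv_eq_iff_eq_mul.1 h1).symm
    refine ⟨p ^ j, pow_ne_one_of_lt_orderOf hj0.ne' (by omega), hz, hzv, ?_⟩
    rw [show e = v * p by rw [hp, ← mul_assoc, hv, one_mul]]
    exact hzv.mul_right (Commute.pow_self p j)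
  · exfalso
    apply hne
    refine isConj_iff.2 ⟨p ^ j, ?_⟩
    have h1 : p ^ j * v = v * p⁻¹ ^ j := by
      rw [← hinv, _root_.conj_pow, hv']
      calc p ^ j * v = (v * v) * p ^ j * v := by rw [hv, one_mul]
        _ = v * (v * p ^ j * v) := by group
    rw [h1, inv_pow, mul_assoc, ← mul_inv_rev, ← pow_add, ← two_mul,
      show p ^ (2 * j) = p⁻¹ from eq_inv_of_mul_eq_one_left (by rw [← pow_succ, ← hj, pow_orderOf_eq_one]),
      inv_inv, hp, ← mul_assoc, hv, one_mul]

theorem isSolvable_perm_four : Group.IsSolvable (Equiv.Perm (Fin 4)) :=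
  CfsgLib.Burnside.isSolvable_of_card_eq Nat.prime_two Nat.prime_three 3 1
    (by rw [Nat.card_perm, Nat.card_fin]; rfl)

variable {G : Type*} [Group G] [Finite G] {S : Sylow 2 G} {r : ℕ} {x y : (S : Subgroup G)}
variable (h : SD (S : Subgroup G) r x y)

/-- The centralizer of the central involution. -/
abbrev C (r : ℕ) (x : (S : Subgroup G)) : Subgroup G := centralizer ({J r x} : Set G)

include h in
theorem sylow_le_C : (S : Subgroup G) ≤ C r x := fun s hs =>
  mem_centralizer_singleton_iff.2 (commute_J h ⟨s, hs⟩)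

/-- The Sylow subgroup inside the centralizer. -/
noncomputable def sC : (S : Subgroup G) →* C r x := Subgroup.inclusion (sylow_le_C h)

@[simp] theorem coe_sC (s : (S : Subgroup G)) : (sC h s : G) = s := rfl

theorem sC_injective : Function.Injective (sC h) := Subgroup.inclusion_injective _

/-- The group generated by the central involution. -/
noncomputable def U : Subgroup (C r x) := zpowers (sC h (x ^ (4 * r : ℤ)))

theorem uC_comm (g : C r x) : g * sC h (x ^ (4 * r : ℤ)) = sC h (x ^ (4 * r : ℤ)) * g :=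
  Subtype.ext (mem_centralizer_singleton_iff.1 g.2)

theorem uC_sq : sC h (x ^ (4 * r : ℤ)) * sC h (x ^ (4 * r : ℤ)) = 1 :=
  Subtype.ext (J_mul_self h)

theorem mem_U {g : C r x} : g ∈ U h ↔ g = 1 ∨ g = sC h (x ^ (4 * r : ℤ)) := by
  constructor
  · intro hg
    obtain ⟨k, rfl⟩ := mem_zpowers_iff.1 hg
    have h2 : sC h (x ^ (4 * r : ℤ)) ^ (2 : ℤ) = 1 := by rw [zpow_two]; exact uC_sq h
    rcases Int.even_or_odd k with ⟨i, rfl⟩ | ⟨i, rfl⟩
    · left; rw [← two_mul, zpow_mul, h2, one_zpow]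
    · right; rw [zpow_add, zpow_mul, h2, one_zpow, one_mul, zpow_one]
  · rintro (rfl | rfl)
    · exact one_mem _
    · exact mem_zpowers _

instance U_normal : (U h).Normal where
  conj_mem g hg k := by
    rcases (mem_U h).1 hg with rfl | rfl
    · simp
    · rw [uC_comm h k, mul_inv_cancel_right]; exact hg

/-- The projection. -/
noncomputable def π : C r x →* C r x ⧸ U h := QuotientGroup.mk' (U h)

theorem π_surjective : Function.Surjective (π h) := QuotientGroup.mk'_surjective _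

theorem π_eq_one {g : C r x} : π h g = 1 ↔ g = 1 ∨ g = sC h (x ^ (4 * r : ℤ)) :=
  (QuotientGroup.eq_one_iff g).trans (mem_U h)

theorem π_eq {g k : C r x} :
    π h g = π h k ↔ g = k ∨ g = sC h (x ^ (4 * r : ℤ)) * k := by
  rw [← mul_inv_eq_one, ← map_inv, ← map_mul, π_eq_one, mul_inv_eq_one, mul_inv_eq_iff_eq_mul]

/-- The image of the element of order four of the cyclic part. -/
noncomputable def cQ : C r x ⧸ U h := π h (sC h (x ^ (2 * r : ℤ)))

theorem cQ_sq : cQ h * cQ h = 1 := by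
  rw [cQ, ← map_mul, ← map_mul, ← zpow_add, ← two_mul, ← mul_assoc, π_eq_one]
  exact Or.inr (by norm_num)

theorem cQ_zpow (i : ℤ) : cQ h ^ i = 1 ∨ cQ h ^ i = cQ h := by
  have h2 : cQ h ^ (2 : ℤ) = 1 := by rw [zpow_two]; exact cQ_sq h
  rcases Int.even_or_odd i with ⟨j, rfl⟩ | ⟨j, rfl⟩
  · left; rw [← two_mul, zpow_mul, h2, one_zpow]
  · right; rw [zpow_add, zpow_mul, h2, one_zpow, one_mul, zpow_one]

include h in
theorem conj_inv {a : ℤ} : x ^ (2 * r : ℤ) * (x ^ a * y) * (x ^ (2 * r : ℤ))⁻¹ =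
    x ^ (4 * r : ℤ) * (x ^ a * y) := by
  rw [CfsgLib.TwoGroups.SD.conj_pow h, ← mul_assoc, ← zpow_add, xy_eq h]
  exact ⟨(r : ℤ), by ring⟩

theorem commute_cQ (a : ℤ) : Commute (cQ h) (π h (sC h (x ^ a * y))) := by
  have e := congrArg (fun s => π h (sC h s)) (conj_inv h (a := a))
  simp only [map_mul, map_inv] at e
  rw [show π h (sC h (x ^ (4 * r : ℤ))) = 1 from (π_eq_one h).2 (Or.inr rfl), one_mul] at e
  simp only [← map_mul, ← map_inv] at e
  show cQ h * _ = _ * cQ h
  simp only [cQ, map_mul, map_inv] at e ⊢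
  exact mul_inv_eq_iff_eq_mul.1 e

variable (hV : Nat.card (centralizer ({J r x, (y : G)} : Set G)) = 4)
include hV

/-- The centralizer of the image of a noncentral involution. -/
theorem cent_image {a : ℤ} (ha : Even a) {e : C r x ⧸ U h}
    (he : Commute e (π h (sC h (x ^ a * y)))) :
    ∃ i : ℤ, e = cQ h ^ i ∨ e = cQ h ^ i * π h (sC h (x ^ a * y)) := by
  obtain ⟨g, rfl⟩ := π_surjective h e
  have key : ∀ k : C r x, k * sC h (x ^ a * y) = sC h (x ^ a * y) * k →
      ∃ i : ℤ, π h k = cQ h ^ i ∨ π h k = cQ h ^ i * π h (sC h (x ^ a * y)) := by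
    intro k hk
    obtain ⟨j, e | e⟩ := cent_xy h hV ha (mem_centralizer_singleton_iff.1 k.2)
      (congrArg Subtype.val hk)
    · refine ⟨2 * j, Or.inl ?_⟩
      rw [show k = sC h (x ^ (4 * r * j : ℤ)) from Subtype.ext e, cQ, ← map_zpow, ← map_zpow,
        ← zpow_mul]
      congr 3; ring
    · refine ⟨2 * j, Or.inr ?_⟩
      rw [show k = sC h (x ^ (4 * r * j : ℤ) * (x ^ a * y)) from Subtype.ext e, map_mul, map_mul,
        cQ, ← map_zpow, ← map_zpow, ← zpow_mul]
      congr 4; ring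
  have he' : π h (g * sC h (x ^ a * y) * g⁻¹) = π h (sC h (x ^ a * y)) := by
    rw [map_mul, map_mul, map_inv, he.eq, mul_inv_cancel_right]
  rcases (π_eq h).1 he' with e | e
  · exact key g (mul_inv_eq_iff_eq_mul.1 e)
  · obtain ⟨i, hi⟩ := key ((sC h (x ^ (2 * r : ℤ)))⁻¹ * g) (by
      have ec := congrArg (sC h) (conj_inv h (a := a))
      simp only [map_mul, map_inv] at ec e ⊢
      rw [← ec] at e
      refine mul_inv_eq_iff_eq_mul.1 ?_
      calc _ = (sC h (x ^ (2 * r : ℤ)))⁻¹ * (g * (sC h (x ^ a) * sC h y) * g⁻¹) *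
            sC h (x ^ (2 * r : ℤ)) := by group
        _ = _ := by rw [e]; group)
    refine ⟨1 + i, ?_⟩
    rw [map_mul, map_inv, inv_mul_eq_iff_eq_mul, inv_mul_eq_iff_eq_mul, ← mul_assoc] at hi
    rw [zpow_add, zpow_one]
    exact hi

variable [IsSimpleGroup G]

theorem commute_conj (k : C r x ⧸ U h) : Commute (k * cQ h * k⁻¹) (cQ h) := by
  set e := k * cQ h * k⁻¹ with hedef
  have he : e * e = 1 := by
    rw [hedef, show k * cQ h * k⁻¹ * (k * cQ h * k⁻¹) = k * (cQ h * cQ h) * k⁻¹ by group, cQ_sq,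
      mul_one, mul_inv_cancel]
  have hyy : sC h (x ^ (0 : ℤ) * y) * sC h (x ^ (0 : ℤ) * y) = 1 := by
    rw [← map_mul, zpow_zero, one_mul, yy h, map_one]
  have hv : π h (sC h (x ^ (0 : ℤ) * y)) * π h (sC h (x ^ (0 : ℤ) * y)) = 1 := by
    rw [← map_mul, hyy, map_one]
  have hmain : ∀ {a : ℤ}, Even a → Commute e (π h (sC h (x ^ a * y))) → Commute e (cQ h) := by
    intro a ha hc
    obtain ⟨i, hi | hi⟩ := cent_image h hV ha hc <;> rw [hi]
    · exact (Commute.refl _).zpow_left i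
    · exact ((Commute.refl _).zpow_left i).mul_left (commute_cQ h a).symm
  by_cases hconj : IsConj (π h (sC h (x ^ (0 : ℤ) * y))) e
  · exfalso
    have hvc := hconj.trans (isConj_iff.2 ⟨k⁻¹, by rw [hedef]; group⟩ : IsConj e (cQ h))
    obtain ⟨m, hm⟩ := isConj_iff.1 hvc
    obtain ⟨n, rfl⟩ := π_surjective h m
    simp only [cQ, ← map_mul, ← map_inv] at hm
    have hsq : ∀ g : C r x, g = n * sC h (x ^ (0 : ℤ) * y) * n⁻¹ → g * g = 1 := by
      rintro g rfl
      calc _ = n * (sC h (x ^ (0 : ℤ) * y) * sC h (x ^ (0 : ℤ) * y)) * n⁻¹ := by group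
        _ = 1 := by rw [hyy, mul_one, mul_inv_cancel]
    have h4 : sC h (x ^ (2 * r : ℤ)) * sC h (x ^ (2 * r : ℤ)) = sC h (x ^ (4 * r : ℤ)) := by
      rw [← map_mul, ← zpow_add]; congr 2; ring
    have hone : sC h (x ^ (4 * r : ℤ)) ≠ 1 := fun e => J_ne_one h (congrArg Subtype.val e)
    rcases (π_eq h).1 hm with e' | e'
    · exact hone (h4.symm.trans (hsq _ e'.symm))
    · have := hsq _ e'.symm
      rw [show ∀ u c : C r x, u * c * (u * c) = u * (c * u) * c from fun u c => by group,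
        uC_comm h, ← mul_assoc, uC_sq h, one_mul, h4] at this
      exact hone this
  obtain ⟨z, hz1, -, hzv, hze⟩ := exists_common_involution hv he hconj
  obtain ⟨i, hi⟩ := cent_image h hV Even.zero hzv
  rcases cQ_zpow h i with ei | ei <;> rw [ei] at hi <;> rcases hi with hi | hi
  · exact absurd hi hz1
  · rw [one_mul] at hi
    exact hmain Even.zero (hi ▸ hze).symm
  · exact (hi ▸ hze).symm
  · refine hmain (a := 2 * r) ⟨r, by ring⟩ ?_
    have e2 : π h (sC h (x ^ (2 * r : ℤ) * y)) = z := by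
      rw [hi, zpow_zero, one_mul, map_mul, map_mul]; rfl
    rw [e2]; exact hze.symm

/-- The normal closure of the image of the element of order four. -/
noncomputable def A : Subgroup (C r x ⧸ U h) := normalClosure {cQ h}

omit hV in
theorem cQ_mem_A : cQ h ∈ A h := subset_normalClosure (Set.mem_singleton _)

theorem A_comm {a b : C r x ⧸ U h} (ha : a ∈ A h) (hb : b ∈ A h) : Commute a b := by
  have hpair : ∀ p q : C r x ⧸ U h, p ∈ Group.conjugatesOfSet ({cQ h} : Set _) →
      q ∈ Group.conjugatesOfSet ({cQ h} : Set _) → Commute p q := by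
    intro p q hp hq
    obtain ⟨_, rfl, hp⟩ := Group.mem_conjugatesOfSet_iff.1 hp
    obtain ⟨_, rfl, hq⟩ := Group.mem_conjugatesOfSet_iff.1 hq
    obtain ⟨m, rfl⟩ := isConj_iff.1 hp
    obtain ⟨n, rfl⟩ := isConj_iff.1 hq
    have := (commute_conj h hV (n⁻¹ * m)).map (MulAut.conj n).toMonoidHom
    simp only [MulEquiv.coe_toMonoidHom, MulAut.conj_apply] at this
    rwa [show n * (n⁻¹ * m * cQ h * (n⁻¹ * m)⁻¹) * n⁻¹ = m * cQ h * m⁻¹ by group] at this
  refine closure_induction₂ (fun p q hp hq => hpair p q hp hq) ?_ ?_ ?_ ?_ ?_ ?_ ha hb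
  · exact fun _ _ => Commute.one_left _
  · exact fun _ _ => Commute.one_right _
  · exact fun _ _ _ _ _ _ h1 h2 => h1.mul_left h2
  · exact fun _ _ _ _ _ _ h1 h2 => h1.mul_right h2
  · exact fun _ _ _ _ h1 => h1.inv_left
  · exact fun _ _ _ _ h1 => h1.inv_right

theorem A_sq {a : C r x ⧸ U h} (ha : a ∈ A h) : a * a = 1 := by
  induction ha using closure_induction with
  | mem p hp =>
    obtain ⟨_, rfl, hp⟩ := Group.mem_conjugatesOfSet_iff.1 hp
    obtain ⟨m, rfl⟩ := isConj_iff.1 hp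
    rw [show m * cQ h * m⁻¹ * (m * cQ h * m⁻¹) = m * (cQ h * cQ h) * m⁻¹ by group, cQ_sq, mul_one,
      mul_inv_cancel]
  | one => rw [one_mul]
  | mul p q hp hq hp' hq' =>
    rw [(A_comm h hV hq hp).mul_mul_mul_comm, hp', hq', one_mul]
  | inv p _ hp' => rw [← mul_inv_rev, hp', inv_one]

theorem isPGroup_A : IsPGroup 2 (A h) := fun a =>
  ⟨1, Subtype.ext (by rw [pow_one, pow_two]; exact A_sq h hV a.2)⟩

/-- The image of the other element of order four. -/
noncomputable def dQ : C r x ⧸ U h := π h (sC h (x ^ (1 : ℤ) * y))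

omit hV in
theorem dQ_mem_A : dQ h ∈ A h := by
  obtain ⟨g, hg, hgc⟩ := exists_fuse_four h
  have hgC : g ∈ C r x := mem_centralizer_singleton_iff.2 hg
  have e : dQ h = π h ⟨g, hgC⟩ * cQ h * (π h ⟨g, hgC⟩)⁻¹ := by
    rw [cQ, dQ, ← map_inv, ← map_mul, ← map_mul]
    exact congrArg (π h) (Subtype.ext hgc.symm)
  rw [e]
  exact normalClosure_normal.conj_mem _ (cQ_mem_A h) _

omit hV in
/-- Elements of the Sylow subgroup commuting with `dQ`. -/
theorem sylow_cent_dQ {s : (S : Subgroup G)} (hs : Commute (π h (sC h s)) (dQ h)) :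
    ∃ i : ℤ, π h (sC h s) = cQ h ^ i ∨ π h (sC h s) = cQ h ^ i * dQ h := by
  have key : ∀ k : ℤ, Commute (π h (sC h (x ^ k))) (dQ h) →
      ∃ i : ℤ, x ^ k = x ^ (2 * r * i : ℤ) := by
    intro k hk
    have e : π h (sC h (x ^ k * (x ^ (1 : ℤ) * y) * (x ^ k)⁻¹)) = dQ h := by
      rw [map_mul (sC h), map_mul (sC h) (x ^ k), map_inv (sC h), map_mul (π h), map_mul (π h),
        map_inv (π h)]
      exact mul_inv_eq_iff_eq_mul.2 hk
    rw [CfsgLib.TwoGroups.SD.conj_pow h] at e
    have e' := (π_eq h).1 e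
    rw [← map_mul] at e'
    have hdvd : (2 * r : ℤ) ∣ k := by
      have h4 : (4 * r : ℤ) ∣ k * (2 - 4 * r) := by
        rcases e' with e' | e'
        · obtain ⟨m, hm⟩ := (xy_eq h).1 (sC_injective h e')
          exact ⟨-2 * m, by linarith⟩
        · have e'' := sC_injective h e'
          rw [← mul_assoc, ← zpow_add] at e''
          obtain ⟨m, hm⟩ := (xy_eq h).1 e''
          exact ⟨1 - 2 * m, by linarith⟩
      obtain ⟨m, hm⟩ := h4
      exact ⟨m + k, by linarith⟩
    obtain ⟨i, rfl⟩ := hdvd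
    exact ⟨i, rfl⟩
  have hc : ∀ i : ℤ, π h (sC h (x ^ (2 * r * i : ℤ))) = cQ h ^ i := fun i => by
    rw [cQ, ← map_zpow, ← map_zpow, ← zpow_mul]
  obtain ⟨k, rfl | rfl⟩ := h.gen s
  · obtain ⟨i, hi⟩ := key k hs
    exact ⟨i, Or.inl (by rw [hi, hc])⟩
  · have e : x ^ k * y = x ^ (k - 1) * (x ^ (1 : ℤ) * y) := by
      rw [← mul_assoc, ← zpow_add, sub_add_cancel]
    have h1 : π h (sC h (x ^ k * y)) = π h (sC h (x ^ (k - 1))) * dQ h := by
      rw [dQ, e, map_mul (sC h), map_mul (π h)]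
    rw [h1] at hs ⊢
    have hs' : Commute (π h (sC h (x ^ (k - 1)))) (dQ h) := by
      have := hs.mul_left (Commute.refl (dQ h)).inv_left
      rwa [mul_inv_cancel_right] at this
    obtain ⟨i, hi⟩ := key _ hs'
    exact ⟨i, Or.inr (by rw [hi, hc])⟩

omit hV in
theorem sylow_cent_mem_A {s : (S : Subgroup G)} (hs : Commute (π h (sC h s)) (dQ h)) :
    π h (sC h s) ∈ A h := by
  obtain ⟨i, hi | hi⟩ := sylow_cent_dQ h hs <;> rw [hi]
  · exact zpow_mem (cQ_mem_A h) i
  · exact mul_mem (zpow_mem (cQ_mem_A h) i) (dQ_mem_A h)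

omit hV [IsSimpleGroup G] in
/-- A 2-element of the quotient is conjugate to an element of the Sylow subgroup. -/
theorem exists_conj_sylow {n : C r x ⧸ U h} (hn : IsPGroup 2 (zpowers n)) :
    ∃ (k : C r x ⧸ U h) (s : (S : Subgroup G)), k * n * k⁻¹ = π h (sC h s) := by
  haveI : Fact (Nat.Prime 2) := ⟨Nat.prime_two⟩
  obtain ⟨R, hR⟩ := hn.exists_le_sylow
  let SQ : Sylow 2 (C r x ⧸ U h) := (S.subtype (sylow_le_C h)).mapSurjective (π_surjective h)
  obtain ⟨k, hk⟩ := MulAction.exists_smul_eq (C r x ⧸ U h) R SQ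
  have hmem : k * n * k⁻¹ ∈ (SQ : Subgroup (C r x ⧸ U h)) := by
    rw [← hk]
    exact ⟨n, hR (mem_zpowers n), rfl⟩
  rw [Sylow.coe_mapSurjective] at hmem
  obtain ⟨g, hg, e⟩ := hmem
  rw [Sylow.coe_subtype, SetLike.mem_coe, mem_subgroupOf] at hg
  exact ⟨k, ⟨g, hg⟩, by rw [← e]; rfl⟩

theorem A_le_four {a : C r x ⧸ U h} (ha : a ∈ A h) :
    a = 1 ∨ a = cQ h ∨ a = dQ h ∨ a = cQ h * dQ h := by
  have hAS : A h ≤ ((S.subtype (sylow_le_C h)).mapSurjective (p := 2)
      (π_surjective h) : Subgroup (C r x ⧸ U h)) := by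
    haveI : Fact (Nat.Prime 2) := ⟨Nat.prime_two⟩
    haveI : (A h).Normal := normalClosure_normal
    exact (isPGroup_A h hV).le_sylow_of_normal _
  obtain ⟨g, hg, rfl⟩ := hAS ha
  rw [Sylow.coe_subtype, SetLike.mem_coe, mem_subgroupOf] at hg
  have hc : Commute (π h (sC h ⟨g, hg⟩)) (dQ h) := A_comm h hV ha (dQ_mem_A h)
  obtain ⟨i, hi⟩ := sylow_cent_dQ h hc
  rw [show π h g = π h (sC h ⟨g, hg⟩) from rfl]
  rcases cQ_zpow h i with ei | ei <;> rw [ei] at hi <;> rcases hi with hi | hi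
  · exact Or.inl hi
  · exact Or.inr (Or.inr (Or.inl (by rw [hi, one_mul])))
  · exact Or.inr (Or.inl hi)
  · exact Or.inr (Or.inr (Or.inr hi))

include h in
/-- The centralizer of the central involution is solvable. -/
theorem isSolvable_C : Group.IsSolvable (C r x) := by
  haveI hAn : (A h).Normal := normalClosure_normal
  haveI hp2 : Fact (Nat.Prime 2) := ⟨Nat.prime_two⟩
  let ψ : (C r x ⧸ U h) →* MulAut (A h) := MulAut.conjNormal
  have hker : ∀ n ∈ ψ.ker, ∀ a ∈ A h, Commute n a := by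
    intro n hn a ha
    have h1 : ((ψ n) ⟨a, ha⟩ : C r x ⧸ U h) = a := by rw [MonoidHom.mem_ker.1 hn]; rfl
    rw [MulAut.conjNormal_apply] at h1
    exact mul_inv_eq_iff_eq_mul.1 h1
  have h2el : ∀ n ∈ ψ.ker, IsPGroup 2 (zpowers n) → n ∈ A h := by
    intro n hn hp
    obtain ⟨k, s, e⟩ := exists_conj_sylow h hp
    have hmem : π h (sC h s) ∈ A h := by
      refine sylow_cent_mem_A h ?_
      rw [← e]
      exact hker _ ((MonoidHom.normal_ker ψ).conj_mem n hn k) _ (dQ_mem_A h)
    rw [← e] at hmem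
    have := hAn.conj_mem _ hmem k⁻¹
    rwa [show k⁻¹ * (k * n * k⁻¹) * k⁻¹⁻¹ = n by group] at this
  let A' : Subgroup ψ.ker := (A h).subgroupOf ψ.ker
  haveI hA'n : A'.Normal := normal_subgroupOf
  have hodd : Odd (Nat.card (ψ.ker ⧸ A')) := by
    rw [← Nat.not_even_iff_odd, even_iff_two_dvd]
    intro h2
    obtain ⟨q, hq⟩ := exists_prime_orderOf_dvd_card' 2 h2
    obtain ⟨n, rfl⟩ := QuotientGroup.mk_surjective q
    obtain ⟨a, m, hm, hcard⟩ := Nat.exists_eq_two_pow_mul_odd (orderOf_pos (n : C r x ⧸ U h)).ne'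
    have hp : IsPGroup 2 (zpowers ((n : C r x ⧸ U h) ^ m)) := by
      refine IsPGroup.of_card (n := a) ?_
      rw [Nat.card_zpowers, orderOf_pow' _ hm.pos.ne', hcard,
        Nat.gcd_eq_right (dvd_mul_left m _), Nat.mul_div_cancel _ hm.pos]
    have hnm : n ^ m ∈ A' := by
      show ((n ^ m : ψ.ker) : C r x ⧸ U h) ∈ A h
      rw [Subgroup.coe_pow]
      exact h2el _ (pow_mem n.2 m) hp
    have h1 : (n : ψ.ker ⧸ A') ^ m = 1 := by
      rw [← QuotientGroup.mk_pow, QuotientGroup.eq_one_iff]; exact hnm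
    have := orderOf_dvd_of_pow_eq_one h1
    rw [hq] at this
    exact (Nat.not_even_iff_odd.2 hm) (even_iff_two_dvd.2 this)
  haveI hQsol : Group.IsSolvable (ψ.ker ⧸ A') := Cfsg.Agent.S0205.result hodd
  haveI hAsol : Group.IsSolvable A' := Group.isSolvable_of_comm fun a b =>
    Subtype.ext (Subtype.ext (A_comm h hV a.2 b.2))
  haveI hksol : Group.IsSolvable ψ.ker :=
    Group.isSolvable_of_ker_le_range A'.subtype (QuotientGroup.mk' A')
      (by rw [QuotientGroup.ker_mk', range_subtype])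
  haveI hautsol : Group.IsSolvable (MulAut (A h)) := by
    classical
    haveI := isSolvable_perm_four
    haveI : Fintype (A h) := Fintype.ofFinite _
    have hcard : Fintype.card (A h) ≤ 4 := by
      let l : List (C r x ⧸ U h) := [1, cQ h, dQ h, cQ h * dQ h]
      have hsub : (Finset.univ : Finset (A h)).image Subtype.val ⊆ l.toFinset := by
        intro a ha
        obtain ⟨b, -, rfl⟩ := Finset.mem_image.1 ha
        simpa [l] using A_le_four h hV b.2
      have := (Finset.card_le_card hsub).trans (List.toFinset_card_le l)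
      rw [Finset.card_image_of_injective _ Subtype.val_injective] at this
      exact this
    obtain ⟨emb⟩ : Nonempty ((A h) ↪ Fin 4) :=
      Function.Embedding.nonempty_of_card_le (by simpa using hcard)
    exact Group.isSolvable_of_isSolvable_injective
      (f := (Equiv.Perm.viaEmbeddingHom emb).comp (MulAut.toPerm (A h)))
      ((Equiv.Perm.viaEmbeddingHom_injective emb).comp fun a b e => MulEquiv.toEquiv_injective e)
  haveI hqsol : Group.IsSolvable (C r x ⧸ U h) :=
    Group.isSolvable_of_ker_le_range ψ.ker.subtype ψ (by rw [range_subtype])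
  haveI hUsol : Group.IsSolvable (U h) := Group.isSolvable_of_comm fun a b =>
    Subtype.ext (by
      rcases (mem_U h).1 a.2 with e | e
      · simp [e]
      · simp only [Subgroup.coe_mul, e]; exact (uC_comm h _).symm)
  exact Group.isSolvable_of_ker_le_range (U h).subtype (π h)
    (by rw [range_subtype, π, QuotientGroup.ker_mk'])

end CfsgLib.Suborbit3.SDLocal
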